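import Cfsg.Agent.Lib.Blocks.FirstMain
import Mathlib.LinearAlgebra.Matrix.SpecialLinearGroup
import Mathlib.LinearAlgebra.Matrix.SchurComplement
import Mathlib.GroupTheory.Nilpotent
import Mathlib.LinearAlgebra.Dual.Lemmas
import Mathlib.LinearAlgebra.Matrix.CharP

/-!
# Blocks of `SL(n, F)` of positive defect have full defect

A nontrivial defect group is radical, so it contains the unipotent radical of the stabiliser of
its fixed space; the regular elements centralising that radical are scalar.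
-/

set_option autoImplicit false
set_option linter.unusedSectionVars false

namespace Cfsg.Agent.SLBlocks

open Cfsg.Agent.Blocks Matrix
open scoped Pointwise

universe u

variable {n : ℕ} {F : Type u} [Field F] [Fintype F] [DecidableEq F]

local notation "G" => Matrix.SpecialLinearGroup (Fin n) F
local notation "V" => (Fin n → F)
local notation "Mat'" => Matrix (Fin n) (Fin n) F

/-- The elements inducing the identity on `W` and on the quotient by it. -/
def radicalOf (W : Submodule F V) : Subgroup G where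
  carrier := {g | (∀ v, (g : Mat') *ᵥ v - v ∈ W) ∧ ∀ w ∈ W, (g : Mat') *ᵥ w = w}
  one_mem' := ⟨fun v => by simp, fun w _ => by simp⟩
  mul_mem' := by
    rintro a b ⟨ha, ha'⟩ ⟨hb, hb'⟩
    refine ⟨fun v => ?_, fun w hw => ?_⟩ <;>
      rw [Matrix.SpecialLinearGroup.coe_mul, ← Matrix.mulVec_mulVec]
    · simpa using add_mem (ha ((b : Mat') *ᵥ v)) (hb v)
    · rw [hb' w hw, ha' w hw]
  inv_mem' := by
    rintro a ⟨ha, ha'⟩
    have hinv : ∀ v, (a : Mat') *ᵥ (((a⁻¹ : G) : Mat') *ᵥ v) = v := fun v => by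
      rw [Matrix.mulVec_mulVec, ← Matrix.SpecialLinearGroup.coe_mul, mul_inv_cancel,
        Matrix.SpecialLinearGroup.coe_one, Matrix.one_mulVec]
    refine ⟨fun v => ?_, fun w hw => ?_⟩
    · have h := ha (((a⁻¹ : G) : Mat') *ᵥ v)
      rw [hinv] at h
      simpa using neg_mem h
    · conv_lhs => rw [← ha' w hw, Matrix.mulVec_mulVec, ← Matrix.SpecialLinearGroup.coe_mul,
        inv_mul_cancel, Matrix.SpecialLinearGroup.coe_one, Matrix.one_mulVec]

theorem radicalOf_isPGroup (p : ℕ) [Fact p.Prime] [CharP F p] (W : Submodule F V) :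
    IsPGroup p (radicalOf W) := by
  rintro ⟨g, hg, hg'⟩
  have hpow : ∀ (i : ℕ) (v : V), ((g ^ i : G) : Mat') *ᵥ v =
      v + (i : F) • ((g : Mat') *ᵥ v - v) := by
    intro i v
    induction i with
    | zero => simp
    | succ i ih =>
      rw [pow_succ', Matrix.SpecialLinearGroup.coe_mul, ← Matrix.mulVec_mulVec, ih, Matrix.mulVec_add,
        Matrix.mulVec_smul, hg' _ (hg v), Nat.cast_succ, add_smul, one_smul]
      abel
  refine ⟨1, Subtype.ext (Subtype.ext (Matrix.ext_of_mulVec_single fun j => ?_))⟩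
  show ((g ^ p ^ 1 : G) : Mat') *ᵥ _ = ((1 : G) : Mat') *ᵥ _
  rw [pow_one, hpow, CharP.cast_eq_zero, zero_smul, add_zero, Matrix.SpecialLinearGroup.coe_one,
    Matrix.one_mulVec]

theorem radicalOf_conj {W : Submodule F V} {g : G} (hg : ∀ w ∈ W, (g : Mat') *ᵥ w ∈ W)
    (hg' : ∀ w ∈ W, ((g⁻¹ : G) : Mat') *ᵥ w ∈ W) {u : G} (hu : u ∈ radicalOf W) :
    g * u * g⁻¹ ∈ radicalOf W := by
  obtain ⟨hu1, hu2⟩ := hu
  have hinv : ∀ v, (g : Mat') *ᵥ (((g⁻¹ : G) : Mat') *ᵥ v) = v := fun v => by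
    rw [Matrix.mulVec_mulVec, ← Matrix.SpecialLinearGroup.coe_mul, mul_inv_cancel,
      Matrix.SpecialLinearGroup.coe_one, Matrix.one_mulVec]
  refine ⟨fun v => ?_, fun w hw => ?_⟩ <;>
    rw [Matrix.SpecialLinearGroup.coe_mul, Matrix.SpecialLinearGroup.coe_mul, ← Matrix.mulVec_mulVec,
      ← Matrix.mulVec_mulVec]
  · have h := hg _ (hu1 (((g⁻¹ : G) : Mat') *ᵥ v))
    rwa [Matrix.mulVec_sub, hinv] at h
  · rw [hu2 _ (hg' w hw), hinv]

/-- The fixed space of a subgroup. -/
def fixedSpace (D : Subgroup G) : Submodule F V where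
  carrier := {v | ∀ d ∈ D, (d : Mat') *ᵥ v = v}
  add_mem' := fun {a b} ha hb d hd => by rw [Matrix.mulVec_add, ha d hd, hb d hd]
  zero_mem' := fun d _ => Matrix.mulVec_zero _
  smul_mem' := fun c v hv d hd => by rw [Matrix.mulVec_smul, hv d hd]

theorem fixedSpace_normalizer {D : Subgroup G} {g : G} (hg : g ∈ Subgroup.normalizer (D : Set G))
    {w : V} (hw : w ∈ fixedSpace D) : (g : Mat') *ᵥ w ∈ fixedSpace D := by
  intro d hd
  have h1 : g⁻¹ * d * g ∈ D := (Subgroup.mem_normalizer_iff''.mp hg d).mp hd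
  conv_rhs => rw [← hw _ h1]
  rw [Matrix.mulVec_mulVec, Matrix.mulVec_mulVec, ← Matrix.SpecialLinearGroup.coe_mul,
    ← Matrix.SpecialLinearGroup.coe_mul, show g * (g⁻¹ * d * g) = d * g by group]

theorem fixedSpace_ne_bot (p : ℕ) [Fact p.Prime] [CharP F p] (hn : 0 < n) {D : Subgroup G}
    (hD : IsPGroup p D) : ∃ w ∈ fixedSpace D, w ≠ 0 := by
  letI : MulAction D V :=
    { smul := fun d v => ((d : G) : Mat') *ᵥ v
      one_smul := fun v => by
        show (((1 : D) : G) : Mat') *ᵥ v = v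
        simp
      mul_smul := fun a b v => by
        show (((a * b : D) : G) : Mat') *ᵥ v = ((a : G) : Mat') *ᵥ (((b : G) : Mat') *ᵥ v)
        rw [Subgroup.coe_mul, Matrix.SpecialLinearGroup.coe_mul, Matrix.mulVec_mulVec] }
  have hdvd : p ∣ Nat.card V := by
    obtain ⟨e, -, he⟩ := FiniteField.card F p
    rw [Nat.card_fun, Nat.card_fin, Nat.card_eq_fintype_card, he, ← pow_mul]
    exact dvd_pow_self p (Nat.mul_pos e.pos hn).ne'
  obtain ⟨w, hw, hw0⟩ := hD.exists_fixed_point_of_prime_dvd_card_of_fixed_point V hdvd (a := (0 : V))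
    (fun d => Matrix.mulVec_zero _)
  exact ⟨w, fun d hd => hw ⟨d, hd⟩, hw0.symm⟩

/-- A regular element centralising the radical of a proper nonzero subspace is central. -/
theorem central_of_centralizes_radical (p : ℕ) [Fact p.Prime] [CharP F p] {W : Submodule F V}
    {w₀ : V} (hw₀ : w₀ ∈ W) (hw0 : w₀ ≠ 0) {x₀ : V} (hx₀ : x₀ ∉ W) {g : G}
    (hreg : ¬ p ∣ orderOf g) (hcomm : ∀ u ∈ radicalOf W, u * g = g * u) :
    g ∈ Subgroup.center G := by
  set A : Matrix (Fin n) (Fin n) F := (g : Mat') with hA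
  have hfun : ∀ x : V, x ∉ W → ∃ f : V, f ⬝ᵥ x ≠ 0 ∧ ∀ w ∈ W, f ⬝ᵥ w = 0 := by
    intro x hx
    obtain ⟨φ, hφx, hφW⟩ := W.exists_dual_map_eq_bot_of_notMem hx inferInstance
    refine ⟨fun i => φ (Pi.single i 1), ?_, fun w hw => ?_⟩
    · have e : φ x = ∑ i, x i * φ (Pi.single i 1) := by
        conv_lhs => rw [pi_eq_sum_univ' x]
        simp [map_sum]
      rw [e] at hφx
      simpa [dotProduct, mul_comm] using hφx
    · have e : φ w = ∑ i, w i * φ (Pi.single i 1) := by
        conv_lhs => rw [pi_eq_sum_univ' w]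
        simp [map_sum]
      have h0 : φ w = 0 := (Submodule.eq_bot_iff _).mp hφW _ ⟨w, hw, rfl⟩
      rw [e] at h0
      simpa [dotProduct, mul_comm] using h0
  have key : ∀ w ∈ W, ∀ f : V, (∀ v ∈ W, f ⬝ᵥ v = 0) → ∀ x,
      (f ⬝ᵥ x) • (A *ᵥ w) = (f ⬝ᵥ (A *ᵥ x)) • w := by
    intro w hw f hf x
    let T : G := ⟨1 + Matrix.vecMulVec w f, by
      rw [Matrix.vecMulVec_eq Unit, Matrix.det_one_add_replicateCol_mul_replicateRow, hf w hw,
        add_zero]⟩
    have hT : ∀ v, (T : Mat') *ᵥ v = v + (f ⬝ᵥ v) • w := fun v => by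
      show (1 + Matrix.vecMulVec w f) *ᵥ v = _
      rw [Matrix.add_mulVec, Matrix.one_mulVec, Matrix.vecMulVec_mulVec]
      simp
    have hTU : T ∈ radicalOf W := ⟨fun v => by rw [hT]; simpa using W.smul_mem _ hw,
      fun v hv => by rw [hT, hf v hv, zero_smul, add_zero]⟩
    have h := congrArg (fun u : G => (u : Mat') *ᵥ x) (hcomm T hTU)
    simp only [Matrix.SpecialLinearGroup.coe_mul, ← Matrix.mulVec_mulVec, hT, Matrix.mulVec_add,
      Matrix.mulVec_smul] at h
    exact (add_left_cancel h).symm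
  obtain ⟨f₀, hf₀, hf₀W⟩ := hfun x₀ hx₀
  set c : F := (f₀ ⬝ᵥ x₀)⁻¹ * (f₀ ⬝ᵥ (A *ᵥ x₀)) with hc
  have hW : ∀ w ∈ W, A *ᵥ w = c • w := fun w hw => by
    rw [hc, mul_smul, ← key w hw f₀ hf₀W x₀, smul_smul, inv_mul_cancel₀ hf₀, one_smul]
  have hquot : ∀ x, A *ᵥ x - c • x ∈ W := by
    intro x
    by_contra hx
    obtain ⟨f, hf, hfW⟩ := hfun _ hx
    have h := key w₀ hw₀ f hfW x
    rw [hW w₀ hw₀, smul_smul, ← sub_eq_zero, ← sub_smul, smul_eq_zero] at h
    apply hf
    rw [dotProduct_sub, dotProduct_smul, smul_eq_mul]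
    linear_combination -(h.resolve_right hw0)
  have hnil : (A - c • 1) * (A - c • 1) = 0 := by
    refine Matrix.ext_of_mulVec_single fun j => ?_
    rw [Matrix.zero_mulVec, ← Matrix.mulVec_mulVec]
    have hsub : ∀ y : V, (A - c • 1) *ᵥ y = A *ᵥ y - c • y := fun y => by
      rw [Matrix.sub_mulVec, Matrix.smul_mulVec, Matrix.one_mulVec]
    rw [hsub (Pi.single j 1), hsub, hW _ (hquot _), sub_self]
  haveI : Nonempty (Fin n) := by
    by_contra he
    haveI := not_nonempty_iff.mp he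
    exact hw0 (Subsingleton.elim _ _)
  have hp : A ^ p = c ^ p • 1 := by
    have h := sub_pow_char_of_commute p ((Commute.one_right A).smul_right c)
    rw [show p = 2 + (p - 2) from (Nat.add_sub_cancel' (Fact.out (p := p.Prime)).two_le).symm,
      pow_add, pow_two, hnil, zero_mul] at h
    rw [← show p = 2 + (p - 2) from (Nat.add_sub_cancel' (Fact.out (p := p.Prime)).two_le).symm] at h
    rw [eq_comm, sub_eq_zero] at h
    rw [h, smul_pow, one_pow]
  have hgp : g ^ p ∈ Subgroup.center G := by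
    rw [Subgroup.mem_center_iff]
    intro h
    apply Subtype.ext
    rw [Matrix.SpecialLinearGroup.coe_mul, Matrix.SpecialLinearGroup.coe_mul,
      Matrix.SpecialLinearGroup.coe_pow, ← hA, hp]
    simp
  obtain ⟨k, hk⟩ := exists_pow_eq_self_of_coprime (x := g) (n := p)
    ((Fact.out (p := p.Prime)).coprime_iff_not_dvd.mpr hreg)
  rw [← hk]
  exact Subgroup.pow_mem _ hgp k

theorem full_defect {p : ℕ} [Fact p.Prime] [CharP F p] {M : Ideal AlgInt} [M.IsPrime]
    (hM : IsPModular p M) {B : Set (IrrCharacter G)} (hB : IsPBlock M B)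
    (hd : blockDefect p B ≠ 0) : blockDefect p B = (Nat.card G).factorization p := by
  classical
  haveI := charP_res hM
  obtain ⟨D, hD⟩ := exists_defectGroup (p := p) hB
  obtain ⟨g, hg, hle, hDp, -⟩ := defectGroup_spec hD
  have hD1 : D ≠ ⊥ := fun h => hd (by
    have hc := card_defectGroup hM hB hD
    rw [h, Subgroup.card_bot] at hc
    exact (pow_eq_one_iff_right (Fact.out (p := p.Prime)).ne_one).mp hc.symm)
  have hn : 0 < n := by
    by_contra h0
    obtain rfl : n = 0 := by omega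
    exact hD1 (Subgroup.eq_bot_of_subsingleton D)
  obtain ⟨w₀, hw₀, hw0⟩ := fixedSpace_ne_bot p hn hDp
  obtain ⟨x₀, hx₀⟩ : ∃ x, x ∉ fixedSpace D := by
    by_contra hall
    push Not at hall
    refine hD1 ((Subgroup.eq_bot_iff_forall D).mpr fun d hd => Subtype.ext ?_)
    exact Matrix.ext_of_mulVec_single fun j => by
      rw [hall _ d hd, Matrix.SpecialLinearGroup.coe_one, Matrix.one_mulVec]
  set W := fixedSpace D with hW
  set N := Subgroup.normalizer (D : Set G) with hN
  set U₂ := radicalOf W with hU₂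
  have hU₂p : IsPGroup p U₂ := radicalOf_isPGroup p W
  have hNU : ∀ x ∈ N, ∀ u ∈ U₂, x * u * x⁻¹ ∈ U₂ := fun x hx u hu =>
    radicalOf_conj (fun w hw => fixedSpace_normalizer hx hw)
      (fun w hw => fixedSpace_normalizer (inv_mem hx) hw) hu
  -- the block of the normalizer
  obtain ⟨ξ, hξ⟩ := exists_block_inducing hM hDp Subgroup.le_normalizer
    (Subgroup.centralizer_le_normalizer _) le_rfl hB
    ((br_bBar_ne_zero_iff hM hB hD hDp).mpr ⟨1, fun y hy => by
      rw [mem_map_conj] at hy; simpa using hy⟩)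
  have hdef := defect_of_induced_normalizer hM hξ hD
  have hinter : ∀ u ∈ U₂, u ∈ N → u ∈ D := by
    intro u hu huN
    haveI : ((U₂ ⊓ N).subgroupOf N).Normal := ⟨fun y hy x => by
      rw [Subgroup.mem_subgroupOf] at hy ⊢
      exact ⟨hNU x x.2 y hy.1, (x * y * x⁻¹ : N).2⟩⟩
    have hle' := normal_le_defect hM hξ.1 (Q := (U₂ ⊓ N).subgroupOf N)
      ((hU₂p.to_le inf_le_left).comap_subtype) hdef
    exact hle' (x := ⟨u, huN⟩) ⟨hu, huN⟩
  have hUD : U₂ ≤ D := by
    have hDU : D ≤ Subgroup.normalizer (U₂ : Set G) := fun d hd => by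
      rw [Subgroup.mem_normalizer_iff]
      have hdN : d ∈ N := Subgroup.le_normalizer hd
      refine fun u => ⟨hNU d hdN u, fun h => ?_⟩
      have := hNU d⁻¹ (inv_mem hdN) _ h
      simpa [mul_assoc] using this
    set S := D ⊔ U₂
    have hS : IsPGroup p S := hDp.to_sup_of_normal_right' hU₂p hDU
    haveI : Group.IsNilpotent S := hS.isNilpotent
    by_contra hne
    have hlt : D.subgroupOf S < ⊤ := lt_top_iff_ne_top.mpr fun h =>
      hne (le_sup_right.trans (Subgroup.subgroupOf_eq_top.mp h))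
    obtain ⟨x, hxN, hxD⟩ := SetLike.exists_of_lt
      (Group.normalizerCondition_of_isNilpotent (D.subgroupOf S) hlt)
    have hxN' : (x : G) ∈ N := by
      rw [hN, Subgroup.mem_normalizer_iff]
      intro y
      constructor
      · intro hy
        exact (Subgroup.mem_normalizer_iff.mp hxN ⟨y, Subgroup.mem_sup_left hy⟩).mp hy
      · intro hy
        have hyS : y ∈ S := by
          have : (x : G)⁻¹ * ((x : G) * y * (x : G)⁻¹) * x ∈ S :=
            mul_mem (mul_mem (inv_mem x.2) (Subgroup.mem_sup_left hy)) x.2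
          simpa [mul_assoc] using this
        exact (Subgroup.mem_normalizer_iff.mp hxN ⟨y, hyS⟩).mpr hy
    obtain ⟨d, hd, u, hu, hdu⟩ : (x : G) ∈ (D : Set G) * (U₂ : Set G) := by
      rw [← Subgroup.coe_mul_of_left_le_normalizer_right D U₂ hDU]; exact x.2
    have hdu' : d * u = (x : G) := hdu
    refine hxD (show (x : G) ∈ D from ?_)
    rw [← hdu']
    refine mul_mem hd (hinter u hu ?_)
    rw [← inv_mul_cancel_left d u, hdu']
    exact mul_mem (inv_mem (Subgroup.le_normalizer hd)) hxN'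
  have hgc := central_of_centralizes_radical p hw₀ hw0 hx₀ (regular_of_defectClass hM hB hg)
    (fun u hu => Subgroup.mem_centralizer_singleton_iff.mp (hle (hUD hu)))
  rw [blockDefect_eq hM hB hg]
  congr 1
  rw [show Subgroup.centralizer ({g} : Set G) = ⊤ by
    rw [eq_top_iff]; intro x _
    exact Subgroup.mem_centralizer_singleton_iff.mpr (Subgroup.mem_center_iff.mp hgc x),
    Subgroup.card_top]

end Cfsg.Agent.SLBlocks
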