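import Cfsg.Agent.Lib.SLBlocks.DefectZero
import Cfsg.Agent.Lib.SLBlocks.FullDefect
import Cfsg.Agent.Lib.Blocks.DefectCount
import Cfsg.Agent.Lib.Blocks.CentralDefect
import Cfsg.Agent.Lib.Blocks.IsoBlocks
import Mathlib.GroupTheory.SpecificGroups.Cyclic

/-!
# The number of blocks of `SL(n, F)` in the defining characteristic

Besides the block of defect zero, whose central character is trivial, there is one block of full
defect for each character of the center.
-/

set_option autoImplicit false
set_option linter.unusedSectionVars false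

namespace Cfsg.Agent.SLBlocks

open MonoidAlgebra Cfsg.Agent.Blocks
open scoped ComplexConjugate Pointwise

universe u

section Center

variable {G : Type u} [Group G] [Finite G]

/-- The central character of an irreducible character on the center. -/
noncomputable def lamC (χ : IrrCharacter G) (z : Subgroup.center G) : ℂ :=
  (χ : G → ℂ) (z : G) / (χ : G → ℂ) 1

theorem lamC_mul (χ : IrrCharacter G) (z w : Subgroup.center G) :
    lamC χ (z * w) = lamC χ z * lamC χ w := by
  have h := char_mul_central χ.2 w.2 (z : G)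
  have h0 := CT.irr_one_ne_zero χ.2
  rw [lamC, lamC, lamC, Subgroup.coe_mul]
  field_simp
  linear_combination h

/-- There are at least as many central characters as central elements. -/
theorem card_center_le_lamC :
    Nat.card (Subgroup.center G) ≤ Nat.card (Set.range (lamC (G := G))) := by
  classical
  haveI := Fintype.ofFinite G
  haveI := Fintype.ofFinite (Set.range (lamC (G := G)))
  set S : Submodule ℂ (Subgroup.center G → ℂ) :=
    Submodule.span ℂ (Set.range (lamC (G := G))) with hS
  have htop : S = ⊤ := by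
    rw [eq_top_iff]
    intro f _
    have hpi : ∀ z₀ : Subgroup.center G, (Pi.single z₀ (1 : ℂ)) ∈ S := by
      intro z₀
      have hG := CT.card_ne_zero (G := G)
      have e : (Pi.single z₀ (1 : ℂ) : Subgroup.center G → ℂ) =
          ∑ χ : IrrCharacter G, ((Nat.card G : ℂ)⁻¹ * ((χ : G → ℂ) 1 * (χ : G → ℂ) 1) *
            lamC χ z₀⁻¹) • lamC χ := by
        funext z
        have h := CT.column_orthogonality ((z * z₀⁻¹ : Subgroup.center G) : G) 1
        simp only [Finset.sum_apply, Pi.smul_apply, smul_eq_mul]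
        rw [Finset.sum_congr rfl (g := fun χ : IrrCharacter G => (Nat.card G : ℂ)⁻¹ *
          ((χ : G → ℂ) ((z * z₀⁻¹ : Subgroup.center G) : G) * conj ((χ : G → ℂ) 1))) fun χ _ => by
          rw [mul_assoc, ← lamC_mul, show z₀⁻¹ * z = z * z₀⁻¹ from
            Subtype.ext (Subgroup.mem_center_iff.mp z.2 ((z₀⁻¹ : Subgroup.center G) : G)), lamC, charDegree_cast, map_natCast,
            ← charDegree_cast]
          field_simp [CT.irr_one_ne_zero χ.2],
          ← Finset.mul_sum, h, isConj_one_left, Pi.single_apply]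
        by_cases hz : z = z₀
        · rw [if_pos hz, if_pos (by rw [hz, mul_inv_cancel]; rfl)]
          have hc : Subgroup.centralizer ({((z * z₀⁻¹ : Subgroup.center G) : G)} : Set G) = ⊤ :=
            eq_top_iff.mpr fun x _ => Subgroup.mem_centralizer_singleton_iff.mpr
              (Subgroup.mem_center_iff.mp (z * z₀⁻¹).2 x)
          rw [hc, Subgroup.card_top, inv_mul_cancel₀ hG]
        · rw [if_neg hz, if_neg (fun h' : ((z * z₀⁻¹ : Subgroup.center G) : G) = 1 =>
            hz (mul_inv_eq_one.mp (Subtype.ext h'))), mul_zero]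
      rw [e]
      exact Submodule.sum_mem _ fun χ _ => Submodule.smul_mem _ _ (Submodule.subset_span ⟨χ, rfl⟩)
    haveI := Fintype.ofFinite (Subgroup.center G)
    rw [show f = ∑ z, f z • Pi.single z (1 : ℂ) from funext fun x => by simp [Pi.single_apply]]
    exact Submodule.sum_mem _ fun z _ => Submodule.smul_mem _ _ (hpi z)
  haveI := Fintype.ofFinite (Subgroup.center G)
  have h := finrank_span_le_card (R := ℂ) (Set.range (lamC (G := G)))
  rw [← hS, htop, finrank_top, Module.finrank_fintype_fun_eq_card, Set.toFinset_card] at h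
  rwa [Nat.card_eq_fintype_card, Nat.card_eq_fintype_card]

variable {p : ℕ} {M : Ideal AlgInt} [M.IsPrime]

theorem centralizer_center (z : Subgroup.center G) :
    Subgroup.centralizer ({(z : G)} : Set G) = ⊤ :=
  eq_top_iff.mpr fun x _ => Subgroup.mem_centralizer_singleton_iff.mpr
    (Subgroup.mem_center_iff.mp z.2 x)

theorem lamC_eq_centralChar (χ : IrrCharacter G) (z : Subgroup.center G) :
    lamC χ z = centralChar (χ : G → ℂ) (z : G) := by
  rw [lamC, centralChar, centralizer_center, Subgroup.index_top, Nat.cast_one, one_mul]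

theorem lamC_pow (χ : IrrCharacter G) (z : Subgroup.center G) (i : ℕ) :
    lamC χ (z ^ i) = lamC χ z ^ i := by
  induction i with
  | zero => rw [pow_zero, pow_zero, lamC, OneMemClass.coe_one, div_self (CT.irr_one_ne_zero χ.2)]
  | succ i ih => rw [pow_succ, pow_succ, lamC_mul, ih]

theorem red_lamC_eq_one_iff (hM : IsPModular p M) (χ : IrrCharacter G) {z : Subgroup.center G}
    (hz : ¬ p ∣ orderOf z) : red M (centralCharL M χ (z : G)) = 1 ↔ lamC χ z = 1 := by
  constructor
  · intro h
    have h2 := IsoBlocks.eq_one_of_pow_eq_one hM hz (z := centralCharL M χ (z : G)) (Subtype.ext (by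
      rw [SubmonoidClass.coe_pow, coe_centralCharL, ← lamC_eq_centralChar, ← lamC_pow,
        pow_orderOf_eq_one, lamC, OneMemClass.coe_one, div_self (CT.irr_one_ne_zero χ.2)]
      rfl)) h
    rw [lamC_eq_centralChar, ← coe_centralCharL (M := M), h2]
    rfl
  · intro h
    have e : centralCharL M χ (z : G) = 1 := Subtype.ext (by
      rw [coe_centralCharL, ← lamC_eq_centralChar, h]; rfl)
    rw [e, map_one]

theorem lamC_eq_of_sameBlock (hM : IsPModular p M) {χ ψ : IrrCharacter G}
    (hreg : ∀ z : Subgroup.center G, ¬ p ∣ orderOf z)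
    (h : SameBlock M (χ : G → ℂ) (ψ : G → ℂ)) : lamC χ = lamC ψ := by
  funext z
  have hzero : ∀ η : IrrCharacter G, lamC η z ^ orderOf z = 1 := fun η => by
    rw [← lamC_pow, pow_orderOf_eq_one, lamC, OneMemClass.coe_one, div_self (CT.irr_one_ne_zero η.2)]
  have hinv : ∀ η : IrrCharacter G, lamC η z * lamC η z⁻¹ = 1 := fun η => by
    rw [← lamC_mul, mul_inv_cancel, lamC, OneMemClass.coe_one, div_self (CT.irr_one_ne_zero η.2)]
  set a : Loc M := centralCharL M χ (z : G) * centralCharL M ψ ((z⁻¹ : Subgroup.center G) : G)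
  have ha : (a : ℂ) = lamC χ z * lamC ψ z⁻¹ := by
    simp only [a, Subring.coe_mul, coe_centralCharL, ← lamC_eq_centralChar]
  have ha1 : red M a = 1 := by
    have e : red M (centralCharL M χ (z : G)) = red M (centralCharL M ψ (z : G)) :=
      sameBlock_iff_red.mp h _
    simp only [a, map_mul, e]
    rw [← map_mul, show centralCharL M ψ (z : G) * centralCharL M ψ ((z⁻¹ : Subgroup.center G) : G) = 1
      from Subtype.ext (by
        simp only [Subring.coe_mul, coe_centralCharL, ← lamC_eq_centralChar, hinv]; rfl), map_one]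
  have ha2 : a = 1 := IsoBlocks.eq_one_of_pow_eq_one hM (hreg z) (Subtype.ext (by
    rw [SubmonoidClass.coe_pow, ha, mul_pow, hzero, one_mul, ← lamC_pow, inv_pow, pow_orderOf_eq_one,
      inv_one, lamC, OneMemClass.coe_one, div_self (CT.irr_one_ne_zero ψ.2)]
    rfl)) ha1
  rw [ha2] at ha
  calc lamC χ z = lamC χ z * (lamC ψ z * lamC ψ z⁻¹) := by rw [hinv, mul_one]
    _ = (lamC χ z * lamC ψ z⁻¹) * lamC ψ z := by ring
    _ = lamC ψ z := by rw [← ha]; simp

end Center

variable {m : ℕ} {F : Type u} [Field F] [Fintype F] [DecidableEq F] {p : ℕ} [Fact p.Prime]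
  [CharP F p] {M : Ideal AlgInt} [M.IsPrime]

local notation "Γ" => Matrix.SpecialLinearGroup (Fin (m + 1)) F

theorem regular_center (z : Subgroup.center Γ) : ¬ p ∣ orderOf z := by
  obtain ⟨r, hr, hrA⟩ := Matrix.SpecialLinearGroup.mem_center_iff.mp z.2
  have hr0 : r ≠ 0 := by
    rintro rfl
    rw [zero_pow (Fintype.card_ne_zero (α := Fin (m + 1)))] at hr
    exact zero_ne_one hr
  have h1 : (z : Γ) ^ (Fintype.card F - 1) = 1 := by
    apply Subtype.ext
    rw [Matrix.SpecialLinearGroup.coe_pow, ← hrA, ← map_pow,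
      FiniteField.pow_card_sub_one_eq_one r hr0, map_one, Matrix.SpecialLinearGroup.coe_one]
  intro hd
  have h2 : p ∣ Fintype.card F - 1 := by
    rw [← Subgroup.orderOf_coe] at hd
    exact hd.trans (orderOf_dvd_of_pow_eq_one h1)
  obtain ⟨e, hp, he⟩ := FiniteField.card F p
  rw [he] at h2
  have h3 : p ∣ 1 := by
    have := Nat.dvd_sub (dvd_pow_self p e.pos.ne') h2
    rwa [Nat.sub_sub_self (Nat.one_le_pow _ _ hp.pos)] at this
  exact hp.ne_one (Nat.dvd_one.mp h3)

theorem inCell_center_mul (z : Subgroup.center Γ) (g : Γ) :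
    InCell ((z : Γ) * g) ↔ InCell g := by
  obtain ⟨r, hr, hrA⟩ := Matrix.SpecialLinearGroup.mem_center_iff.mp z.2
  have hr0 : r ≠ 0 := by
    rintro rfl
    rw [zero_pow (Fintype.card_ne_zero (α := Fin (m + 1)))] at hr
    exact zero_ne_one hr
  have h : ∀ k, delta ((z : Γ) * g) k = r ^ (k.val + 1) * delta g k := fun k => by
    rw [delta, delta, Matrix.SpecialLinearGroup.coe_mul, ← hrA, Matrix.scalar_apply,
      mnr_diagonal_mul]
    simp
  simp only [InCell, h]
  exact forall_congr' fun k => by simp [hr0]

/-- The block of defect zero has trivial central character. -/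
theorem lamC_defectZero (hM : IsPModular p M) {B : Set (IrrCharacter Γ)} (hB : IsPBlock M B)
    (hd : blockDefect p B = 0) {χ : IrrCharacter Γ} (hχ : χ ∈ B) (z : Subgroup.center Γ) :
    lamC χ z = 1 := by
  classical
  haveI := charP_res hM
  obtain ⟨c, hc, hE⟩ := exists_image p hM hB hd
  set e : MonoidAlgebra (Res M) Γ := (bBar M B : MonoidAlgebra (Res M) Γ)
  set lam : Res M := red M (centralCharL M χ (z : Γ))
  set η : ZG (Res M) Γ := classSumZ (Res M) (z : Γ) - scalarZ lam
  obtain ⟨j, hj⟩ : IsNilpotent (bBar M B * η) := isNilpotent_of_omegaBar hM _ fun ψ => by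
    rw [map_mul, omegaBar_bBar (blockCoeff_mem_loc hB)]
    split_ifs with hψ
    · rw [one_mul, map_sub, omegaBar_classSumZ, omegaBar_scalarZ, sub_eq_zero]
      exact (sameBlock_iff_red.mp ((mem_block_iff hB hχ).mp hψ) _).symm
    · rw [zero_mul]
  have hz : (classSumZ (Res M) (z : Γ) : MonoidAlgebra (Res M) Γ) = single (z : Γ) 1 := by
    ext u
    rw [coe_classSumZ]
    simp only [classSum, coeff_ofFun, coeff_single, Finsupp.single_apply]
    have hiff : IsConj (z : Γ) u ↔ (z : Γ) = u := ⟨fun h => by
      obtain ⟨w, hw⟩ := isConj_iff.mp h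
      rw [← hw, Subgroup.mem_center_iff.mp z.2 w, mul_inv_cancel_right], fun h => h ▸ IsConj.refl _⟩
    by_cases h : (z : Γ) = u
    · rw [classInd_pos (hiff.mpr h), if_pos h]
    · rw [classInd_neg fun h' => h (hiff.mp h'), if_neg h]
  have hzX : single (z : Γ) (1 : Res M) * xSum p (Res M) = xSum p (Res M) := by
    ext y
    rw [coeff_single_mul', one_mul, coeff_xSum, coeff_xSum]
    refine if_congr ?_ rfl rfl
    have := inCell_center_mul z⁻¹ y
    rwa [Subgroup.coe_inv] at this
  have hηX : (η : MonoidAlgebra (Res M) Γ) * xSum p (Res M) = (1 - lam) • xSum p (Res M) := by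
    simp only [η, AddSubgroupClass.coe_sub]
    rw [hz, sub_mul, hzX, sub_smul, one_smul]
    congr 1
    ext y
    simp [scalarZ, coeff_single_one_mul]
  have hee : e * e = e := congrArg Subtype.val (bBar_mul_self (blockCoeff_mem_loc hB))
  have heX : e * (c • xSum p (Res M)) = c • xSum p (Res M) := by rw [← hE, ← mul_assoc, hee]
  rw [mul_smul_comm] at heX
  have heX' : e * xSum p (Res M) = xSum p (Res M) := smul_right_injective _ hc heX
  have hpow : ∀ i : ℕ, ((bBar M B * η : ZG (Res M) Γ) : MonoidAlgebra (Res M) Γ) ^ i *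
      xSum p (Res M) = (1 - lam) ^ i • xSum p (Res M) := by
    intro i
    induction i with
    | zero => rw [pow_zero, pow_zero, one_mul, one_smul]
    | succ i ih =>
      rw [pow_succ, mul_assoc, Subring.coe_mul, mul_assoc, hηX, mul_smul_comm, heX', mul_smul_comm,
        ← Subring.coe_mul, ih, smul_smul, ← pow_succ']
  have h := hpow j
  rw [← SubmonoidClass.coe_pow, hj, ZeroMemClass.coe_zero, zero_mul, eq_comm, smul_eq_zero] at h
  have h1 : 1 - lam = 0 :=
    eq_zero_of_pow_eq_zero (h.resolve_right (xSum_ne_zero p (Res M)))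
  exact (red_lamC_eq_one_iff hM χ (regular_center z)).mp (sub_eq_zero.mp h1).symm

variable (F) in
theorem dvd_card (hm : 0 < m) : p ∣ Nat.card Γ := by
  obtain ⟨v, hv, hv1, -⟩ := exists_inf_of_not_cell (g := (1 : Γ)) fun h => by
    refine h ⟨0, hm⟩ ?_
    show mnr _ _ = 0
    refine Matrix.det_eq_zero_of_column_eq_zero ⟨0, by simp⟩ fun i => ?_
    simp only [Matrix.submatrix_apply, Matrix.SpecialLinearGroup.coe_one]
    refine Matrix.one_apply_ne fun e => ?_
    have := congrArg Fin.val e
    simp only [botIdx, topIdx] at this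
    omega
  obtain ⟨k, hk⟩ := IsPGroup.iff_orderOf.mp (upperU_isPGroup m F p) ⟨v, hv⟩
  rw [Subgroup.orderOf_mk] at hk
  refine (dvd_pow_self p (n := k) ?_).trans (hk ▸ orderOf_dvd_natCard v)
  rintro rfl
  rw [pow_zero] at hk
  exact hv1 (orderOf_eq_one_iff.mp hk)

/-- Regular classes of full defect are central. -/
theorem central_of_full (hm : 0 < m) {g : Γ} (hg : ¬ p ∣ orderOf g)
    (hd : (Nat.card (Subgroup.centralizer ({g} : Set Γ))).factorization p =
      (Nat.card Γ).factorization p) : g ∈ Subgroup.center Γ := by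
  let S : Sylow p (Subgroup.centralizer ({g} : Set Γ)) := default
  set P := (S : Subgroup _).map (Subgroup.centralizer ({g} : Set Γ)).subtype with hP
  have hPp : IsPGroup p P := S.isPGroup'.map _
  have hPc : Nat.card P = p ^ (Nat.card Γ).factorization p := by rw [hP, card_sylow_map, hd]
  obtain ⟨w₀, hw₀, hw0⟩ := fixedSpace_ne_bot p (Nat.succ_pos m) hPp
  have hP1 : P ≠ ⊥ := fun h => by
    rw [h, Subgroup.card_bot] at hPc
    have := (pow_eq_one_iff_right (Fact.out (p := p.Prime)).ne_one).mp hPc.symm
    exact ((Fact.out (p := p.Prime)).factorization_pos_of_dvd Nat.card_pos.ne' (dvd_card F hm)).ne' this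
  obtain ⟨x₀, hx₀⟩ : ∃ x, x ∉ fixedSpace P := by
    by_contra hall
    push Not at hall
    refine hP1 ((Subgroup.eq_bot_iff_forall P).mpr fun d hd => Subtype.ext ?_)
    exact Matrix.ext_of_mulVec_single fun j => by
      rw [hall _ d hd, Matrix.SpecialLinearGroup.coe_one, Matrix.one_mulVec]
  set U₂ := radicalOf (fixedSpace P)
  have hle : P ≤ Subgroup.normalizer (U₂ : Set Γ) := fun d hd => by
    rw [Subgroup.mem_normalizer_iff]
    have hdN : d ∈ Subgroup.normalizer (P : Set Γ) := Subgroup.le_normalizer hd
    refine fun u => ⟨fun hu => radicalOf_conj (fun w hw => fixedSpace_normalizer hdN hw)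
      (fun w hw => fixedSpace_normalizer (inv_mem hdN) hw) hu, fun h => ?_⟩
    have := radicalOf_conj (g := d⁻¹) (fun w hw => fixedSpace_normalizer (inv_mem hdN) hw)
      (fun w hw => by rw [inv_inv]; exact fixedSpace_normalizer hdN hw) h
    simpa [mul_assoc] using this
  have hsup : IsPGroup p ↥(P ⊔ U₂) :=
    hPp.to_sup_of_normal_right' (radicalOf_isPGroup p _) hle
  have heq : P = P ⊔ U₂ := Subgroup.eq_of_le_of_card_ge le_sup_left (by
    rw [hPc]
    obtain ⟨k, hk⟩ := IsPGroup.iff_card.mp hsup
    rw [hk]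
    exact Nat.pow_le_pow_right (Fact.out (p := p.Prime)).pos
      (((Fact.out (p := p.Prime)).pow_dvd_iff_le_factorization Nat.card_pos.ne').mp
        (hk ▸ Subgroup.card_subgroup_dvd_card _)))
  refine central_of_centralizes_radical p hw₀ hw0 hx₀ hg fun u hu => ?_
  exact Subgroup.mem_centralizer_singleton_iff.mp
    (Subgroup.map_subtype_le _ (heq.symm ▸ (Subgroup.mem_sup_right hu : u ∈ P ⊔ U₂) : u ∈ P))

theorem card_blocks (hM : IsPModular p M) (hm : 0 < m) :
    Nat.card {B : Set (IrrCharacter Γ) // IsPBlock M B} = Nat.card (Subgroup.center Γ) + 1 := by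
  classical
  set a := (Nat.card Γ).factorization p with ha
  have ha0 : a ≠ 0 :=
    ((Fact.out (p := p.Prime)).factorization_pos_of_dvd Nat.card_pos.ne' (dvd_card F hm)).ne'
  set Full := {B : Set (IrrCharacter Γ) // IsPBlock M B ∧ blockDefect p B = a}
  -- at most one block of full defect for each central element
  have hle : Nat.card Full ≤ Nat.card (Subgroup.center Γ) := by
    refine (card_blocks_defect_le hM a).trans (Nat.card_le_card_of_surjective
      (fun z : Subgroup.center Γ => ⟨ConjClasses.mk (z : Γ), z, rfl, ?_, ?_⟩) ?_)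
    · rw [Subgroup.orderOf_coe]; exact regular_center z
    · rw [centralizer_center, Subgroup.card_top]
    · rintro ⟨C, g, rfl, hg, hgd⟩
      exact ⟨⟨g, central_of_full hm hg hgd⟩, rfl⟩
  -- at least one for each central character
  have hge : Nat.card (Subgroup.center Γ) ≤ Nat.card Full := by
    refine card_center_le_lamC.trans ?_
    choose χ hχ using fun l : Set.range (lamC (G := Γ)) => l.2
    let pick : Set.range (lamC (G := Γ)) → IrrCharacter Γ := fun l =>
      if ∀ z, l.1 z = 1 then CT.trivIrr Γ else χ l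
    have hpick : ∀ l, lamC (pick l) = l.1 := fun l => by
      simp only [pick]
      split_ifs with h
      · funext z
        rw [h z]
        simp [lamC]
      · exact hχ l
    refine Nat.card_le_card_of_injective
      (fun l => ⟨blockOf M (pick l : Γ → ℂ), isPBlock_blockOf _, ?_⟩) ?_
    · refine full_defect hM (isPBlock_blockOf _) fun h0 => ?_
      have hone := lamC_defectZero hM (isPBlock_blockOf _) h0 (self_mem_blockOf (pick l))
      simp only [hpick] at hone
      obtain ⟨g, hg⟩ := exists_defectClass (M := M) (isPBlock_blockOf (pick l))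
      have h1 := le_factorization_of_defectClass hM hg (self_mem_blockOf (pick l))
      rw [← blockDefect_eq hM (isPBlock_blockOf _) hg, h0] at h1
      have htriv : pick l = CT.trivIrr Γ := if_pos hone
      rw [htriv] at h1
      have hdeg : charDegree ((CT.trivIrr Γ : IrrCharacter Γ) : Γ → ℂ) = 1 := by
        have := charDegree_cast (CT.trivIrr Γ)
        simp only [CT.trivIrr_apply] at this
        exact_mod_cast this.symm
      rw [hdeg, Nat.factorization_one, Finsupp.zero_apply] at h1
      exact ha0 (Nat.le_zero.mp h1)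
    · intro l l' e
      have e' : blockOf M (pick l : Γ → ℂ) = blockOf M (pick l' : Γ → ℂ) := congrArg Subtype.val e
      refine Subtype.ext ?_
      rw [← hpick l, ← hpick l']
      exact lamC_eq_of_sameBlock hM regular_center
        ((mem_block_iff (isPBlock_blockOf _) (self_mem_blockOf _)).mp
          (e'.symm ▸ self_mem_blockOf (pick l')))
  obtain ⟨B₀, hB₀, hd₀⟩ := exists_defectZero (m := m) (F := F) p hM
  have e : {B : Set (IrrCharacter Γ) // IsPBlock M B} ≃ Option Full :=
    { toFun := fun B => if h : blockDefect p B.1 = 0 then none else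
        some ⟨B.1, B.2, full_defect hM B.2 h⟩
      invFun := fun o => o.elim ⟨B₀, hB₀⟩ fun B => ⟨B.1, B.2.1⟩
      left_inv := fun B => by
        by_cases h : blockDefect p B.1 = 0
        · simp only [h, dite_true, Option.elim]
          exact Subtype.ext (defectZero_unique p hM hB₀ hd₀ B.2 h)
        · simp [h]
      right_inv := fun o => by
        cases o with
        | none => simp [hd₀]
        | some B => simp [B.2.2, ha0] }
  rw [Nat.card_congr e, Finite.card_option, le_antisymm hle hge]

theorem card_center (p : ℕ) [Fact p.Prime] (n : ℕ) [NeZero n] :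
    Nat.card (Subgroup.center (Matrix.SpecialLinearGroup (Fin n) (ZMod p))) = Nat.gcd n (p - 1) := by
  rw [Nat.card_congr (Matrix.SpecialLinearGroup.center_equiv_rootsOfUnity'
    (⟨0, Nat.pos_of_ne_zero (NeZero.ne n)⟩ : Fin n)).toEquiv, Fintype.card_fin]
  have h : rootsOfUnity n (ZMod p) = (powMonoidHom n : (ZMod p)ˣ →* (ZMod p)ˣ).ker := by
    ext u; simp [mem_rootsOfUnity]
  rw [h, IsCyclic.card_powMonoidHom_ker, Nat.card_units, Nat.card_zmod, Nat.gcd_comm]

end Cfsg.Agent.SLBlocks
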